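import Cfsg.Agent.H721.FR.Base
import Cfsg.Agent.H955.FSAll
import Cfsg.Agent.H327.SR.Psl
import Cfsg.Agent.H893.SR.PSpThree
import Cfsg.Agent.S0244
import Cfsg.Agent.S4973

/-!
# S4970: the rows `PSL_n(q)`, `PSp_2m(q)`, `PΩ^±_4m(q)` (`q` even) (helper825)

* `FR.transfer` : `FR` under isomorphisms between groups in different universes;
* `good_of_fsz` : from `FSZ z` to a quotient by a subgroup containing `z`;
* `fr_psl`, `fr_psp` : from `Hyp`; `fr_plus_even`, `fr_minus_even`.
-/

set_option autoImplicit false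

universe u v

namespace Cfsg.Agent.H825.FR

open Cfsg Cfsg.Agent.H955.FS Cfsg.Agent.H721.SR Cfsg.Agent.H721.FR Module
open Cfsg.Agent.Characters.Core
open scoped Matrix

/-! ### Transfer between universes -/

theorem fsi_equiv {G : Type u} {H : Type v} [Group G] [Group H] (e : G ≃* H) (χ : H → ℂ) :
    fsi (χ ∘ e) = fsi χ := by
  unfold fsi
  rw [Nat.card_congr e.toEquiv]
  congr 1
  rw [← finsum_comp_equiv e.toEquiv]
  refine finsum_congr fun s => ?_
  show χ (e (s * s)) = χ (e s * e s)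
  rw [map_mul]

theorem good_transfer {G : Type u} {H : Type v} [Group G] [Group H] (e : G ≃* H) {w : Prop}
    (h : FSGood w G) : FSGood w H := by
  intro χ hχ
  have h1 := h (χ ∘ e) (isIrr_comp e.toMonoidHom e.surjective hχ)
  rwa [fsi_equiv] at h1

theorem fr_transfer {G : Type u} {H : Type v} [Group G] [Group H] (e : G ≃* H) (h : FR G) :
    FR H := by
  intro hr
  refine good_transfer e (h fun g => ?_)
  obtain ⟨x, hx⟩ := isConj_iff.1 (hr (e g))
  refine isConj_iff.2 ⟨e.symm x, e.injective ?_⟩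
  simpa using hx

/-! ### Quotients -/

theorem good_of_fsz {G H : Type u} [Group G] [Group H] [Finite G] (f : G →* H)
    (hf : Function.Surjective f) {z : G} (hz : f z = 1) (h : FSZ z) : FSGood True H := by
  have : Finite H := Finite.of_surjective f hf
  intro χ hχ
  have h1 := isIrr_comp f hf hχ
  have h2 := h _ h1
  rw [fsi_comp f hf] at h2
  rcases fsi_cases hχ with h3 | h3 | h3
  · exact Or.inr ⟨trivial, h3⟩
  · exact Or.inl h3
  · exfalso
    apply h2
    rw [h3]
    show -1 * χ (f z) = - χ (f 1)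
    rw [hz, map_one]
    ring

/-! ### The symplectic form -/

section Sp

variable (m : ℕ) (F : Type u) [Field F]

/-- the symplectic form as a bilinear map -/
noncomputable def BS : (Fin m ⊕ Fin m → F) →ₗ[F] (Fin m ⊕ Fin m → F) →ₗ[F] F :=
  Matrix.toLinearMap₂' F (Matrix.J (Fin m) F)

variable {m F}

theorem BS_apply (x y : Fin m ⊕ Fin m → F) : BS m F x y = Cfsg.sympForm m F x y := by
  unfold BS Cfsg.sympForm
  rw [Matrix.toLinearMap₂'_apply']

theorem BS_symm (x y : Fin m ⊕ Fin m → F) : BS m F x y = -1 * BS m F y x := by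
  rw [BS_apply, BS_apply, Symp.sympForm_eq, Symp.sympForm_eq, Finset.mul_sum]
  refine Finset.sum_congr rfl fun i _ => ?_
  ring

theorem BS_nondeg (x : Fin m ⊕ Fin m → F) (h : ∀ y, BS m F x y = 0) : x = 0 := by
  by_contra hne
  obtain ⟨y, hy⟩ := S0765.form_nondeg x hne
  apply hy
  rw [← BS_apply, BS_symm, h y, mul_zero]

theorem fm [Fintype F] (hF : Fintype.card F % 4 = 1) : Fm (BS m F) (-1) where
  two := by
    intro h2
    have : CharP F 2 := CharTwo.of_one_ne_zero_of_two_eq_zero one_ne_zero h2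
    have h3 := FiniteField.even_card_iff_char_two.1 (ringChar.eq F 2)
    omega
  eps := Or.inr ⟨rfl, by rw [Nat.card_eq_fintype_card]; exact hF⟩
  symm := BS_symm
  nondeg := BS_nondeg

theorem form_mulVec (A : Matrix.symplecticGroup (Fin m) F) (x y : Fin m ⊕ Fin m → F) :
    Cfsg.sympForm m F (A.1 *ᵥ x) (A.1 *ᵥ y) = Cfsg.sympForm m F x y := by
  have h1 : (A.1)ᵀ * Matrix.J (Fin m) F * A.1 = Matrix.J (Fin m) F := SymplecticGroup.mem_iff'.1 A.2
  unfold Cfsg.sympForm
  rw [← Matrix.vecMul_transpose, ← Matrix.dotProduct_mulVec, Matrix.mulVec_mulVec,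
    Matrix.mulVec_mulVec, h1]

/-- the homomorphism onto the symplectic group -/
noncomputable def toSp : Isom (BS m F) →* Matrix.symplecticGroup (Fin m) F where
  toFun g := ⟨LinearMap.toMatrix' (g.1 : (Fin m ⊕ Fin m → F) →ₗ[F] _), Symp.mem_symplectic _ (by
    intro x y
    rw [← BS_apply, ← BS_apply]
    exact g.2 x y)⟩
  map_one' := by
    apply Subtype.ext
    exact LinearMap.toMatrix'_id
  map_mul' g h := by
    apply Subtype.ext
    exact LinearMap.toMatrix'_comp _ _

theorem toSp_surjective : Function.Surjective (toSp (m := m) (F := F)) := by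
  intro A
  let g : (Fin m ⊕ Fin m → F) ≃ₗ[F] (Fin m ⊕ Fin m → F) :=
    LinearEquiv.ofLinearMap (Matrix.toLin' A.1) (Matrix.toLin' (A⁻¹).1)
      (by
        rw [← Matrix.toLin'_mul]
        have h : A.1 * (A⁻¹).1 = 1 := congrArg Subtype.val (mul_inv_cancel A)
        rw [h, Matrix.toLin'_one])
      (by
        rw [← Matrix.toLin'_mul]
        have h : (A⁻¹).1 * A.1 = 1 := congrArg Subtype.val (inv_mul_cancel A)
        rw [h, Matrix.toLin'_one])
  have hg : g ∈ Isom (BS m F) := by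
    intro x y
    rw [BS_apply, BS_apply]
    exact form_mulVec A x y
  refine ⟨⟨g, hg⟩, ?_⟩
  apply Subtype.ext
  show LinearMap.toMatrix' (g : (Fin m ⊕ Fin m → F) →ₗ[F] _) = A.1
  have h : (g : (Fin m ⊕ Fin m → F) →ₗ[F] _) = Matrix.toLin' A.1 := rfl
  rw [h, LinearMap.toMatrix'_toLin']

/-- `PSp_2m(q)`, `q ≡ 1 mod 4` -/
theorem good_psp_one [Fintype F] (hyp : ∀ n, Hyp.{u} n) (hF : Fintype.card F % 4 = 1) :
    ∀ {H : Type u} [Group H] (f : Matrix.symplecticGroup (Fin m) F →* H),
      Function.Surjective f → (∀ z : Matrix.symplecticGroup (Fin m) F, z.1 = -1 → f z = 1) →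
      FSGood True H := by
  intro H _ f hf hz
  have hfm := fm (m := m) hF
  obtain ⟨hmem, h⟩ := hyp _ F (Fin m ⊕ Fin m → F) (BS m F) (-1) hfm rfl
  have : Finite ((Fin m ⊕ Fin m → F) ≃ₗ[F] (Fin m ⊕ Fin m → F)) :=
    Finite.of_injective (fun g => (g : (Fin m ⊕ Fin m → F) → (Fin m ⊕ Fin m → F)))
      DFunLike.coe_injective
  refine good_of_fsz (f.comp toSp) (hf.comp toSp_surjective) ?_ h
  show f (toSp ⟨zel _ (-1), hmem⟩) = 1
  apply hz
  show LinearMap.toMatrix' ((zel (Fin m ⊕ Fin m → F) (-1 : F)).toLinearMap) = -1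
  have h1 : ¬ (-1 : F) = 1 := by
    intro h1
    apply hfm.two
    linear_combination -h1
  unfold zel
  rw [if_neg h1]
  have h2 : (LinearEquiv.neg F : (Fin m ⊕ Fin m → F) ≃ₗ[F] (Fin m ⊕ Fin m → F)).toLinearMap =
      -LinearMap.id := rfl
  rw [h2, map_neg, LinearMap.toMatrix'_id]

/-- `Sp_2m(q)`, `q` even -/
theorem good_sp_even [Fintype F] [CharP F 2] :
    FSGood False (Matrix.symplecticGroup (Fin m) F) :=
  Cfsg.Agent.H955.FS.symplectic_of_T2_of
    (fun f hf h => Cfsg.Agent.H955.FS.FSGood.of_surjective f hf h)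
    (fun k => (Cfsg.Agent.H955.FS.all k).2.2.1) (F := F) m

end Sp

/-! ### The rows `PSp_2m(q)` and `PSL_n(q)` -/

/-- `Sp₂ = SL₂` -/
def spTwo (F : Type u) [Field F] :
    Matrix.symplecticGroup (Fin 1) F ≃* Matrix.SpecialLinearGroup (Fin 2) F where
  toFun A := ⟨Matrix.reindex finSumFinEquiv finSumFinEquiv
      (A : Matrix (Fin 1 ⊕ Fin 1) (Fin 1 ⊕ Fin 1) F), by
    rw [Matrix.det_reindex_self]
    exact (S0244.result _).1 A.2⟩
  invFun A := ⟨Matrix.reindex finSumFinEquiv.symm finSumFinEquiv.symm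
      (A : Matrix (Fin 2) (Fin 2) F), by
    rw [S0244.result, Matrix.det_reindex_self]
    exact A.2⟩
  left_inv A := by
    apply Subtype.ext
    ext i j
    simp
  right_inv A := by
    apply Subtype.ext
    ext i j
    simp
  map_mul' A B := by
    apply Subtype.ext
    change Matrix.reindex finSumFinEquiv finSumFinEquiv (A.1 * B.1) =
      Matrix.reindex finSumFinEquiv finSumFinEquiv A.1 *
        Matrix.reindex finSumFinEquiv finSumFinEquiv B.1
    rw [Matrix.reindex_apply, Matrix.reindex_apply, Matrix.reindex_apply, Matrix.submatrix_mul_equiv]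

theorem card_cases (F : Type u) [Field F] [Fintype F] :
    CharP F 2 ∨ Fintype.card F % 4 = 1 ∨ Fintype.card F % 4 = 3 := by
  by_cases h : ringChar F = 2
  · exact Or.inl (ringChar.of_eq h)
  · have h1 : Fintype.card F % 2 ≠ 0 := fun h1 => h (FiniteField.even_card_iff_char_two.2 h1)
    omega

theorem neg_one_central {m : ℕ} {F : Type u} [Field F] (z : Matrix.symplecticGroup (Fin m) F)
    (hz : z.1 = -1) : z ∈ Subgroup.center (Matrix.symplecticGroup (Fin m) F) := by
  rw [Subgroup.mem_center_iff]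
  intro g
  apply Subtype.ext
  show g.1 * z.1 = z.1 * g.1
  rw [hz, mul_neg, mul_one, neg_mul, one_mul]

theorem fr_psp' (hyp : ∀ n, Hyp.{u} n) {F : Type u} [Field F] [Fintype F] {m : ℕ} (h3 :
    Fintype.card F % 4 = 3 → NRel (PSp m F)) : FR (PSp m F) := by
  rcases card_cases F with h | h | h
  · exact FR.of_good' (good_sp_even.of_surjective (QuotientGroup.mk' _)
      (QuotientGroup.mk'_surjective _))
  · exact FR.of_good (good_psp_one hyp h (QuotientGroup.mk' _) (QuotientGroup.mk'_surjective _)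
      fun z hz => (QuotientGroup.eq_one_iff _).2 (neg_one_central z hz))
  · exact FR.of_nrel (h3 h)

/-- **the rows `PSp_2m(q)`** -/
theorem fr_psp (hyp : ∀ n, Hyp.{0} n) {S : Type u} [Group S] (h : Cfsg.IsPSp S) : FR S := by
  obtain ⟨F, _, _, m, hm, -, ⟨e⟩⟩ := h
  exact fr_transfer e.symm (fr_psp' hyp fun h3 =>
    Cfsg.Agent.H893.SR.nrel_psp (by omega) h3)

theorem fr_psl_two (hyp : ∀ n, Hyp.{0} n) {F : Type} [Field F] [Fintype F] :
    FR (Matrix.ProjectiveSpecialLinearGroup (Fin 2) F) := by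
  let f : Matrix.symplecticGroup (Fin 1) F →* Matrix.ProjectiveSpecialLinearGroup (Fin 2) F :=
    (QuotientGroup.mk' (Subgroup.center (Matrix.SpecialLinearGroup (Fin 2) F))).comp
      (spTwo F).toMonoidHom
  have hf : Function.Surjective f :=
    (QuotientGroup.mk'_surjective _).comp (spTwo F).surjective
  have : Finite (Matrix.ProjectiveSpecialLinearGroup (Fin 2) F) := Finite.of_surjective f hf
  rcases card_cases F with h | h | h
  · exact FR.of_good' ((good_sp_even (m := 1)).of_surjective f hf)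
  · refine FR.of_good (good_psp_one hyp h f hf fun z hz => ?_)
    refine (QuotientGroup.eq_one_iff _).2 ?_
    have hc := neg_one_central z hz
    rw [Subgroup.mem_center_iff] at hc ⊢
    intro g
    obtain ⟨g, rfl⟩ := (spTwo F).surjective g
    show spTwo F g * spTwo F z = spTwo F z * spTwo F g
    rw [← map_mul, ← map_mul, hc]
  · refine FR.of_nrel (Cfsg.Agent.H327.SR.nrel_two ?_)
    rw [FiniteField.isSquare_neg_one_iff]
    exact fun h1 => h1 h

/-- **the rows `PSL_n(q)`** -/
theorem fr_psl (hyp : ∀ n, Hyp.{0} n) {S : Type u} [Group S] (h : Cfsg.IsPSL S) : FR S := by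
  obtain ⟨F, _, _, n, hn, -, ⟨e⟩⟩ := h
  refine fr_transfer e.symm ?_
  obtain rfl | hn := hn.eq_or_lt
  · exact fr_psl_two hyp
  · obtain ⟨m, rfl⟩ := Nat.exists_eq_add_of_lt hn
    have : 2 + m + 1 = 3 + m := by ring
    rw [this]
    exact FR.of_nrel (Cfsg.Agent.H327.SR.nrel_three m)

/-! ### The rows `PΩ^±_4m(q)`, `q` even -/

theorem good_plus_even {F : Type u} [Field F] [Fintype F] [CharP F 2] {m : ℕ} (hm : 4 ≤ m)
    (he : Even m) : FSGood False (POmega F (quadFormPlus m F)) := by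
  obtain ⟨k, rfl⟩ := he
  have h1 : k + k = 2 * k := by ring
  rw [h1]
  have h2 : FSGood False (Omega F (quadFormPlus (2 * k) F)) := fun χ hχ =>
    Or.inl ((S4973.result (F := F) k (by omega)).1 ⟨χ, hχ⟩)
  exact h2.of_surjective (QuotientGroup.mk' _) (QuotientGroup.mk'_surjective _)

theorem good_minus_even {F : Type u} [Field F] [Fintype F] [CharP F 2] {m : ℕ} (hm : 4 ≤ m)
    (he : Even m) {a b : F} (hab : ∀ z₁ z₂ : F, z₁ ^ 2 + a * z₁ * z₂ + b * z₂ ^ 2 = 0 →
      z₁ = 0 ∧ z₂ = 0) : FSGood False (POmega F (quadFormMinus (m - 1) F a b)) := by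
  obtain ⟨k, rfl⟩ := he
  have h1 : k + k = 2 * k := by ring
  rw [h1]
  have h2 : FSGood False (Omega F (quadFormMinus (2 * k - 1) F a b)) := fun χ hχ =>
    Or.inl ((S4973.result (F := F) k (by omega)).2 a b hab ⟨χ, hχ⟩)
  exact h2.of_surjective (QuotientGroup.mk' _) (QuotientGroup.mk'_surjective _)

/-- **the rows `PΩ⁺_2m(q)`, `m` and `q` even** -/
theorem fr_plus_even {S : Type u} [Group S] {F : Type v} [Field F] [Fintype F] [CharP F 2]
    {m : ℕ} (hm : 4 ≤ m) (he : Even m) (e : S ≃* POmega F (quadFormPlus m F)) : FR S :=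
  fr_transfer e.symm (FR.of_good' (good_plus_even hm he))

/-- **the rows `PΩ⁻_2m(q)`, `m` and `q` even** -/
theorem fr_minus_even {S : Type u} [Group S] {F : Type v} [Field F] [Fintype F] [CharP F 2]
    {m : ℕ} (hm : 4 ≤ m) (he : Even m) {a b : F}
    (hab : ∀ z₁ z₂ : F, z₁ ^ 2 + a * z₁ * z₂ + b * z₂ ^ 2 = 0 → z₁ = 0 ∧ z₂ = 0)
    (e : S ≃* POmega F (quadFormMinus (m - 1) F a b)) : FR S :=
  fr_transfer e.symm (FR.of_good' (good_minus_even hm he hab))

end Cfsg.Agent.H825.FR
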